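import Mathlib
import Groth.Agent.DimTheory.ZeroDim
import Groth.Agent.DimTheory.Fibre

/-! The finite locus and the flat locus of a proper morphism. -/

universe u

open CategoryTheory AlgebraicGeometry TopologicalSpace

namespace Groth.Agent.ProperFinLocus

variable {Z W : Scheme.{u}} (f : Z ⟶ W)

theorem finite_fiber_iff (w : W) [LocallyOfFiniteType f] [QuasiCompact f] :
    (f ⁻¹' {w}).Finite ↔ ∀ z : Z, f z = w → z ∈ f.quasiFiniteLocus := by
  have : LocallyOfFiniteType (f.fiberToSpecResidueField w) := MorphismProperty.pullback_snd _ _ ‹_›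
  have : QuasiCompact (f.fiberToSpecResidueField w) := MorphismProperty.pullback_snd _ _ ‹_›
  have : CompactSpace (f.fiber w) := QuasiCompact.compactSpace_of_compactSpace (f.fiberToSpecResidueField w)
  constructor
  · rintro h z rfl
    have : Finite (f ⁻¹' {f z}) := h.to_subtype
    have : Finite (f.fiber (f z)) := Finite.of_equiv _ (f.fiberHomeo (f z)).toEquiv.symm
    have := Groth.Agent.DimTheory.ZeroDim.isFinite_of_finite (k := W.residueField (f z)) (f.fiberToSpecResidueField (f z))
    have := Groth.Agent.DimTheory.ZeroDim.discreteTopology_of_isFinite (k := W.residueField (f z)) (f.fiberToSpecResidueField (f z))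
    exact f.mem_quasiFiniteLocus.2 (Scheme.Hom.quasiFiniteAt_iff_isOpen_singleton_asFiber.2 (isOpen_discrete _))
  · intro h
    have : DiscreteTopology (f.fiber w) := by
      rw [discreteTopology_iff_isOpen_singleton]
      intro p
      have hp : f (f.fiberι w p) = w := by
        have : f.fiberι w p ∈ Set.range (f.fiberι w) := ⟨p, rfl⟩
        rw [Scheme.Hom.range_fiberι] at this
        exact this
      have hx := h _ hp
      generalize hxp : f.fiberι w p = x at hp hx
      subst hp
      have hopen := Scheme.Hom.quasiFiniteAt_iff_isOpen_singleton_asFiber.1 (f.mem_quasiFiniteLocus.1 hx)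
      have hpx : p = f.asFiber x := (f.fiberι (f x)).isEmbedding.injective (hxp.trans (f.fiberι_asFiber x).symm)
      rw [hpx]
      exact hopen
    have : Finite (f.fiber w) := finite_of_compact_of_discrete
    have : Finite (f ⁻¹' {w}) := Finite.of_equiv _ (f.fiberHomeo w).toEquiv
    exact Set.toFinite _

theorem finite_locus [IsProper f] :
    ∃ U : W.Opens, (U : Set W) = {w : W | (f ⁻¹' {w}).Finite} ∧ IsFinite (f ∣_ U) := by
  let U : W.Opens := ⟨(f '' (f.quasiFiniteLocus : Set Z)ᶜ)ᶜ,
    (f.isClosedMap _ f.quasiFiniteLocus.isOpen.isClosed_compl).isOpen_compl⟩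
  have hU : (U : Set W) = {w : W | (f ⁻¹' {w}).Finite} := by
    ext w
    show w ∈ (f '' (f.quasiFiniteLocus : Set Z)ᶜ)ᶜ ↔ _
    rw [Set.mem_setOf_eq, finite_fiber_iff]
    constructor
    · intro h z hz
      by_contra hn
      exact h ⟨z, hn, hz⟩
    · rintro h ⟨z, hz, hzw⟩
      exact hz (h z hzw)
  refine ⟨U, hU, ?_⟩
  have : LocallyQuasiFinite (f ∣_ U) := by
    refine .of_finite_preimage_singleton _ fun u => ?_
    have hfin : (f ⁻¹' {U.ι u}).Finite := (Set.ext_iff.1 hU u.1).1 u.2
    refine (hfin.preimage (f ⁻¹ᵁ U).ι.isOpenEmbedding.injective.injOn).subset ?_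
    intro z hz
    simp only [Set.mem_preimage, Set.mem_singleton_iff] at hz ⊢
    rw [← Scheme.Hom.comp_apply, ← morphismRestrict_ι, Scheme.Hom.comp_apply, hz]
  exact IsFinite.of_isProper_of_locallyQuasiFinite _

theorem flat_locus [IsProper f] [IsIntegral W]
    (hflat : IsOpen {x : Z | (f.stalkMap x).hom.Flat}) :
    IsOpen {w : W | ∀ z : Z, f z = w → (f.stalkMap z).hom.Flat} ∧
      genericPoint W ∈ {w : W | ∀ z : Z, f z = w → (f.stalkMap z).hom.Flat} := by
  constructor
  · have : {w : W | ∀ z : Z, f z = w → (f.stalkMap z).hom.Flat} = (f '' {x : Z | (f.stalkMap x).hom.Flat}ᶜ)ᶜ := by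
      ext w
      constructor
      · rintro h ⟨z, hz, hzw⟩
        exact hz (h z hzw)
      · intro h z hz
        by_contra hn
        exact h ⟨z, hn, hz⟩
    rw [this]
    exact (f.isClosedMap _ hflat.isClosed_compl).isOpen_compl
  · intro z hz
    have hF : IsField (W.presheaf.stalk (f z)) := by
      rw [hz]
      exact Field.toIsField W.functionField
    letI := hF.toField
    letI := (f.stalkMap z).hom.toAlgebra
    exact (inferInstance : Module.Flat (W.presheaf.stalk (f z)) (Z.presheaf.stalk z))

theorem finite_generic [IsIntegral W] {k : Type u} [Field k] (q : W ⟶ Spec (CommRingCat.of k))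
    [LocallyOfFiniteType q] [LocallyOfFiniteType f] [QuasiCompact f] (n : ℕ)
    (hW : topologicalKrullDim W = n) (hZ : topologicalKrullDim Z = n) :
    (f ⁻¹' {genericPoint W}).Finite := by
  set η := genericPoint W
  have : LocallyOfFiniteType (f.fiberToSpecResidueField η) := MorphismProperty.pullback_snd _ _ ‹_›
  have : QuasiCompact (f.fiberToSpecResidueField η) := MorphismProperty.pullback_snd _ _ ‹_›
  obtain ⟨w, hw⟩ := Groth.Agent.DimTheory.exists_height_ge_of_dim hW.symm.le
  have hη : (n : ℕ∞) ≤ Order.height η := hw.trans (Order.height_mono (genericPoint_specializes w))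
  have hdim : topologicalKrullDim (f.fiber η) ≤ 0 := by
    rw [Groth.Agent.DimTheory.topologicalKrullDim_eq_iSup_height]
    refine iSup_le fun p => ?_
    have h1 := Groth.Agent.DimTheory.height_fiberι f q η p
    have h2 : (Order.height (f.fiberι η p) : WithBot ℕ∞) ≤ n := by
      rw [← hZ, Groth.Agent.DimTheory.topologicalKrullDim_eq_iSup_height]
      exact le_iSup (fun z : Z => (Order.height z : WithBot ℕ∞)) _
    have h3 : Order.height (f.fiberι η p) ≤ (n : ℕ∞) := by exact_mod_cast h2
    have h4 : (n : ℕ∞) + Order.height p ≤ (n : ℕ∞) + 0 := by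
      rw [add_zero]
      exact le_trans (add_le_add hη le_rfl) (h1 ▸ h3)
    have h5 : Order.height p ≤ 0 := (ENat.add_le_add_iff_left (ENat.coe_ne_top n)).1 h4
    exact_mod_cast h5
  have := Groth.Agent.DimTheory.ZeroDim.finite_of_dim_le_zero (k := W.residueField η) (f.fiberToSpecResidueField η) hdim
  have : Finite (f ⁻¹' {η}) := Finite.of_equiv _ (f.fiberHomeo η).toEquiv
  exact Set.toFinite _

end Groth.Agent.ProperFinLocus
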