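import Groth.Agent.ProperFinLocus.Basic

/-! A proper dominant morphism from an integral curve to a regular curve is finite and flat. -/

universe u

open CategoryTheory AlgebraicGeometry TopologicalSpace

namespace Groth.Agent.ProperFinLocus

variable {Z W : Scheme.{u}} [IsIntegral Z] [IsIntegral W] (f : Z ⟶ W)

theorem stalkMap_injective (hf : f (genericPoint Z) = genericPoint W) (z : Z) :
    Function.Injective (f.stalkMap z).hom := by
  have hsp : genericPoint Z ⤳ z := genericPoint_specializes z
  have hsp' : f (genericPoint Z) ⤳ f z := hsp.map f.continuous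
  have h1 : Function.Injective (W.presheaf.stalkSpecializes hsp').hom := by
    have key : ∀ (v : W) (h : v ⤳ f z), v = genericPoint W → Function.Injective (W.presheaf.stalkSpecializes h).hom := by
      rintro v h rfl
      exact IsFractionRing.injective (W.presheaf.stalk (f z)) W.functionField
    exact key _ hsp' hf
  have hF : IsField (W.presheaf.stalk (f (genericPoint Z))) := by
    rw [hf]
    exact Field.toIsField W.functionField
  have h2 : Function.Injective (f.stalkMap (genericPoint Z)).hom := by
    letI := hF.toField
    exact (f.stalkMap (genericPoint Z)).hom.injective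
  intro a b hab
  have h := congrArg CommRingCat.Hom.hom (Scheme.Hom.stalkSpecializes_stalkMap f (genericPoint Z) z hsp)
  simp only [CommRingCat.hom_comp] at h
  apply h1
  apply h2
  show ((f.stalkMap (genericPoint Z)).hom.comp (W.presheaf.stalkSpecializes hsp').hom) a = _
  rw [h]
  show (Z.presheaf.stalkSpecializes hsp).hom ((f.stalkMap z).hom a) = ((f.stalkMap (genericPoint Z)).hom.comp (W.presheaf.stalkSpecializes hsp').hom) b
  rw [h, hab]
  rfl

theorem flat_of_regular_curve [IsLocallyNoetherian W] (hreg : ∀ w : W, IsRegularLocalRing (W.presheaf.stalk w))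
    (hW : topologicalKrullDim W ≤ 1) (hf : f (genericPoint Z) = genericPoint W) : Flat f := by
  refine (Flat.iff_flat_stalkMap f).2 fun z => ?_
  have hinj := stalkMap_injective f hf z
  have hd : ringKrullDim (W.presheaf.stalk (f z)) ≤ 1 := by
    rw [ringKrullDim_stalk_eq_coheight]
    refine le_trans (Order.coheight_le_krullDim _) (le_trans (le_of_eq ?_) hW)
    rw [Groth.Agent.DimTheory.topologicalKrullDim_eq_iSup_height, Order.krullDim_eq_iSup_height_of_nonempty, WithBot.coe_iSup (OrderTop.bddAbove _)]
  have hfr := (IsRegularLocalRing.iff_finrank_cotangentSpace (W.presheaf.stalk (f z))).1 (hreg (f z))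
  rw [← hfr] at hd
  have hd' : Module.finrank (IsLocalRing.ResidueField (W.presheaf.stalk (f z))) (IsLocalRing.CotangentSpace (W.presheaf.stalk (f z))) ≤ 1 := by
    exact_mod_cast hd
  have : IsDedekindDomain (W.presheaf.stalk (f z)) :=
    ((tfae_of_isNoetherianRing_of_isLocalRing_of_isDomain (W.presheaf.stalk (f z))).out 5 2).1 hd'
  algebraize [(f.stalkMap z).hom]
  show Module.Flat (W.presheaf.stalk (f z)) (Z.presheaf.stalk z)
  have : Module.IsTorsionFree (W.presheaf.stalk (f z)) (Z.presheaf.stalk z) :=
    Module.isTorsionFree_iff_algebraMap_injective.2 hinj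
  infer_instance

theorem finite_of_curve [IsProper f] {k : Type u} [Field k] (q : W ⟶ Spec (CommRingCat.of k))
    [LocallyOfFiniteType q] (hW : topologicalKrullDim W = (1 : ℕ)) (hZ : topologicalKrullDim Z = (1 : ℕ))
    (hf : f (genericPoint Z) = genericPoint W) : IsFinite f := by
  have hfin : ∀ w : W, (f ⁻¹' {w}).Finite := by
    intro w
    by_cases hw : w = genericPoint W
    · rw [hw]
      exact finite_generic f q 1 hW hZ
    have : LocallyOfFiniteType (f.fiberToSpecResidueField w) := MorphismProperty.pullback_snd _ _ inferInstance
    have : QuasiCompact (f.fiberToSpecResidueField w) := MorphismProperty.pullback_snd _ _ inferInstance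
    have hdim : topologicalKrullDim (f.fiber w) ≤ 0 := by
      rw [Groth.Agent.DimTheory.topologicalKrullDim_eq_iSup_height]
      refine iSup_le fun p => ?_
      have h1 := Groth.Agent.DimTheory.height_fiberι f q w p
      have hne : f.fiberι w p ≠ genericPoint Z := by
        intro h
        apply hw
        have : f.fiberι w p ∈ Set.range (f.fiberι w) := ⟨p, rfl⟩
        rw [Scheme.Hom.range_fiberι, h] at this
        exact (this : f (genericPoint Z) = w).symm.trans hf
      have hlt : f.fiberι w p < genericPoint Z := by
        refine lt_of_le_not_ge (genericPoint_specializes _) fun h => hne ?_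
        exact (Specializes.antisymm h (genericPoint_specializes _)).eq
      have h2 : (Order.height (genericPoint Z) : WithBot ℕ∞) ≤ (1 : ℕ) := by
        rw [← hZ, Groth.Agent.DimTheory.topologicalKrullDim_eq_iSup_height]
        exact le_iSup (fun z : Z => (Order.height z : WithBot ℕ∞)) _
      have h2' : Order.height (genericPoint Z) ≤ 1 := by exact_mod_cast h2
      have h3 : Order.height (f.fiberι w p) + 1 ≤ 1 := le_trans (Order.height_add_one_le hlt) h2'
      have h4 : Order.height (f.fiberι w p) = 0 := by
        rcases eq_or_ne (Order.height (f.fiberι w p)) 0 with h | h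
        · exact h
        · have h5 := Order.one_le_iff_ne_zero.2 h
          have h6 := le_trans (add_le_add h5 (le_refl (1 : ℕ∞))) h3
          exact absurd h6 (by decide)
      rw [h4] at h1
      have h7 : Order.height p ≤ 0 := h1 ▸ le_add_self
      exact_mod_cast h7
    have := Groth.Agent.DimTheory.ZeroDim.finite_of_dim_le_zero (k := W.residueField w) (f.fiberToSpecResidueField w) hdim
    have : Finite (f ⁻¹' {w}) := Finite.of_equiv _ (f.fiberHomeo w).toEquiv
    exact Set.toFinite _
  have : LocallyQuasiFinite f := .of_finite_preimage_singleton _ hfin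
  exact IsFinite.of_isProper_of_locallyQuasiFinite f

end Groth.Agent.ProperFinLocus
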